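import Groth.Prelude.Def_CAlgX
import Mathlib.LinearAlgebra.TensorProduct.Vanishing
import Mathlib.LinearAlgebra.TensorProduct.Finiteness
import Mathlib.RingTheory.Flat.EquationalCriterion
import Mathlib.RingTheory.Flat.Tensor
import Mathlib.RingTheory.Ideal.Quotient.Operations
import Mathlib.LinearAlgebra.TensorProduct.Quotient
import Mathlib.Algebra.Module.FinitePresentation

/-!
Universally injective maps.
-/

set_option autoImplicit false
open TensorProduct

namespace GrothLib.UnivInj

universe u

variable {R : Type u} [CommRing R] {M N : Type u} [AddCommGroup M] [Module R M] [AddCommGroup N] [Module R N]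

theorem injective {f : M →ₗ[R] N} (hf : CAlgX.UniversallyInjective R f) : Function.Injective f := fun a b h => by
  have h1 := hf R (a₁ := a ⊗ₜ (1 : R)) (a₂ := b ⊗ₜ (1 : R)) (by simp [h])
  simpa using congrArg (TensorProduct.rid R M) h1

theorem lTensor_injective {f : M →ₗ[R] N} (hf : CAlgX.UniversallyInjective R f) (Q : Type u) [AddCommGroup Q]
    [Module R Q] : Function.Injective (f.lTensor Q) :=
  (LinearMap.lTensor_inj_iff_rTensor_inj Q f).2 (hf Q)

theorem comp {P : Type u} [AddCommGroup P] [Module R P] {f : M →ₗ[R] N} {g : N →ₗ[R] P}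
    (hf : CAlgX.UniversallyInjective R f) (hg : CAlgX.UniversallyInjective R g) :
    CAlgX.UniversallyInjective R (g ∘ₗ f) := fun Q _ _ => by
  rw [LinearMap.rTensor_comp]
  exact (hg Q).comp (hf Q)

theorem of_comp {P : Type u} [AddCommGroup P] [Module R P] {f : M →ₗ[R] N} {g : N →ₗ[R] P}
    (h : CAlgX.UniversallyInjective R (g ∘ₗ f)) : CAlgX.UniversallyInjective R f := fun Q _ _ => by
  have := h Q
  rw [LinearMap.rTensor_comp, LinearMap.coe_comp] at this
  exact this.of_comp

/-- The equational condition. -/
def Equational (f : M →ₗ[R] N) : Prop :=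
  ∀ (n m : ℕ) (x : Fin n → M) (y : Fin m → N) (a : Fin n → Fin m → R),
    (∀ i, f (x i) = ∑ j, a i j • y j) → ∃ z : Fin m → M, ∀ i, x i = ∑ j, a i j • z j

theorem universallyInjective_of_equational {f : M →ₗ[R] N} (h : Equational f) :
    CAlgX.UniversallyInjective R f := by
  classical
  intro Q _ _
  rw [injective_iff_map_eq_zero]
  intro z hz
  obtain ⟨S, rfl⟩ := TensorProduct.exists_finset z
  simp only [map_sum, LinearMap.rTensor_tmul] at hz
  -- enlarge the span of the second entries so that the sum already vanishes there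
  have hz' : ∑ i ∈ S, i.2 ⊗ₜ[R] f i.1 = 0 := by
    have h1 := congrArg (TensorProduct.comm R N Q) hz
    simpa [map_sum] using h1
  let U := Submodule.span R (Prod.snd '' (S : Set (M × Q)))
  let v : U ⊗[R] N := ∑ i : S, (⟨i.1.2, Submodule.subset_span ⟨i.1, i.2, rfl⟩⟩ : U) ⊗ₜ f i.1.1
  have hv : LinearMap.rTensor N U.subtype v = 0 := by
    simp only [v, map_sum, LinearMap.rTensor_tmul, Submodule.subtype_apply]
    rw [← hz', ← Finset.sum_coe_sort S]
  obtain ⟨U', hfg, hle, hzero⟩ := Submodule.FG.exists_rTensor_fg_inclusion_eq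
    (Submodule.fg_span (S.finite_toSet.image _)) (x := v) (y := 0) (by rw [map_zero]; exact hv)
  rw [map_zero] at hzero
  have : Module.Finite R U' := Module.Finite.iff_fg.2 hfg
  obtain ⟨k, g, hg⟩ := Module.Finite.exists_fin (R := R) (M := U')
  let ι := S ⊕ Fin k
  let q : ι → U' := Sum.elim (fun i => ⟨i.1.2, hle (Submodule.subset_span ⟨i.1, i.2, rfl⟩)⟩) g
  let x : ι → M := Sum.elim (fun i => i.1.1) 0
  have hsum : ∑ i, q i ⊗ₜ[R] f (x i) = 0 := by
    rw [Fintype.sum_sum_type]
    simp only [q, x, Sum.elim_inl, Sum.elim_inr, Pi.zero_apply, map_zero, TensorProduct.tmul_zero,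
      Finset.sum_const_zero, add_zero]
    rw [← hzero]
    simp [v, map_sum, Submodule.inclusion_apply]
  let e := Fintype.equivFin ι
  obtain ⟨m, a, y, hay, haq⟩ := TensorProduct.vanishesTrivially_of_sum_tmul_eq_zero R (m := q ∘ e.symm)
    (n := fun i => f (x (e.symm i))) (by
      rw [e.symm.surjective.range_comp]
      exact eq_top_iff.2 (hg ▸ Submodule.span_mono (fun _ ⟨i, hi⟩ => ⟨Sum.inr i, hi⟩))) (by
      rw [← hsum]
      exact e.symm.sum_comp fun i => q i ⊗ₜ[R] f (x i))
  obtain ⟨w, hw⟩ := h _ m (fun i => x (e.symm i)) y a hay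
  have hfin : ∑ i, x (e.symm i) ⊗ₜ[R] (q (e.symm i) : Q) = 0 := by
    simp only [hw, TensorProduct.sum_tmul, TensorProduct.smul_tmul]
    rw [Finset.sum_comm]
    refine Finset.sum_eq_zero fun j _ => ?_
    rw [← TensorProduct.tmul_sum]
    have h2 := congrArg Subtype.val (haq j)
    simp only [Submodule.coe_sum, Submodule.coe_smul, Function.comp_apply, ZeroMemClass.coe_zero] at h2
    rw [h2, TensorProduct.tmul_zero]
  rw [e.symm.sum_comp (fun i => x i ⊗ₜ[R] (q i : Q)), Fintype.sum_sum_type] at hfin
  simp only [q, x, Sum.elim_inl, Sum.elim_inr, Pi.zero_apply, TensorProduct.zero_tmul, Finset.sum_const_zero,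
    add_zero] at hfin
  rw [← hfin, Finset.sum_coe_sort S fun i => i.1 ⊗ₜ[R] i.2]

theorem equational_of_injective_fp (f : M →ₗ[R] N)
    (h : ∀ (Q : Type u) [AddCommGroup Q] [Module R Q], Module.FinitePresentation R Q → Function.Injective (f.rTensor Q)) :
    Equational f := by
  classical
  intro n m x y a hxy
  let φ : (Fin m → R) →ₗ[R] (Fin n → R) := Fintype.linearCombination R fun j i => a i j
  let π := (LinearMap.range φ).mkQ
  have hfp : Module.FinitePresentation R ((Fin n → R) ⧸ LinearMap.range φ) :=
    Module.finitePresentation_of_surjective π (Submodule.mkQ_surjective _)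
      (by rw [Submodule.ker_mkQ]; exact (LinearMap.range_eq_map φ) ▸ Module.Finite.fg_top.map φ)
  have hz : ∑ i, x i ⊗ₜ[R] π (Pi.single i 1) = 0 := h _ hfp (by
    simp only [map_sum, LinearMap.rTensor_tmul, hxy, TensorProduct.sum_tmul, TensorProduct.smul_tmul, map_zero]
    rw [Finset.sum_comm]
    refine Finset.sum_eq_zero fun j _ => ?_
    rw [← TensorProduct.tmul_sum, Finset.sum_congr rfl fun i _ => (map_smul π (a i j) (Pi.single i (1 : R))).symm,
      ← map_sum, show π (∑ i, a i j • Pi.single i (1 : R)) = 0 from (Submodule.Quotient.mk_eq_zero _).2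
        ⟨Pi.single j 1, by
          ext i
          simp [φ, Pi.single_apply, Finset.sum_apply]⟩, TensorProduct.tmul_zero])
  have hex : Function.Exact (LinearMap.lTensor M φ) (LinearMap.lTensor M π) :=
    lTensor_exact M (LinearMap.exact_map_mkQ_range φ) (Submodule.mkQ_surjective _)
  obtain ⟨w, hw⟩ := (hex (∑ i, x i ⊗ₜ[R] (Pi.single i 1 : Fin n → R))).1 (by simpa [map_sum] using hz)
  let z := TensorProduct.piScalarRight R R M (Fin m) w
  refine ⟨z, fun i => ?_⟩
  have h1 := congrArg (fun t => TensorProduct.piScalarRight R R M (Fin n) t i) hw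
  simp only [map_sum, TensorProduct.piScalarRight_apply, TensorProduct.piScalarRightHom_tmul, Finset.sum_apply,
    Pi.single_apply, ite_smul, one_smul, zero_smul, Finset.sum_ite_eq, Finset.mem_univ, if_true] at h1
  rw [← h1]
  simp only [z, TensorProduct.piScalarRight_apply]
  clear_value z
  clear h1 hw
  induction w using TensorProduct.induction_on with
  | zero => simp
  | tmul p q =>
    simp [φ, Fintype.linearCombination_apply, Finset.sum_apply, TensorProduct.piScalarRightHom_tmul, Finset.sum_smul,
      mul_smul]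
    exact Finset.sum_congr rfl fun j _ => smul_comm _ _ _
  | add p q hp hq => simp [map_add, Finset.sum_add_distrib, smul_add, hp, hq]

theorem iff_equational (f : M →ₗ[R] N) : CAlgX.UniversallyInjective R f ↔ Equational f :=
  ⟨fun h => equational_of_injective_fp f fun Q _ _ _ => h Q, universallyInjective_of_equational⟩

/-- A short exact sequence with flat cokernel is universally exact. -/
theorem of_flat_quotient {P : Type u} [AddCommGroup P] [Module R P] [Module.Flat R P] {f : M →ₗ[R] N}
    {g : N →ₗ[R] P} (hf : Function.Injective f) (hexact : Function.Exact f g) (hg : Function.Surjective g) :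
    CAlgX.UniversallyInjective R f := by
  classical
  refine universallyInjective_of_equational fun n m x y a hxy => ?_
  let A : (Fin n → R) →ₗ[R] (Fin m → R) := Fintype.linearCombination R a
  let Y : (Fin m → R) →ₗ[R] P := Fintype.linearCombination R (g ∘ y)
  have h0 : Y ∘ₗ A = 0 := by
    refine LinearMap.pi_ext' fun i => LinearMap.ext_ring ?_
    simp only [LinearMap.comp_apply, LinearMap.single_apply, A]
    rw [Fintype.linearCombination_apply_single, one_smul]
    simp only [Y, Fintype.linearCombination_apply, Function.comp_apply, LinearMap.zero_comp, LinearMap.zero_apply, ← map_smul, ← map_sum, ← hxy]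
    exact hexact.apply_apply_eq_zero _
  obtain ⟨k, b, w, hYw, hbA⟩ := Module.Flat.exists_factorization_of_comp_eq_zero_of_free h0
  choose w' hw' using fun l => hg (w (Finsupp.single l 1))
  let W : (Fin k →₀ R) →ₗ[R] N := Finsupp.linearCombination R w'
  have hgW : g ∘ₗ W = w := by
    ext l
    simp [W, hw']
  have hmem : ∀ j, y j - W (b (Pi.single j 1)) ∈ LinearMap.range f := fun j => by
    rw [← hexact.linearMap_ker_eq, LinearMap.mem_ker, map_sub, ← LinearMap.comp_apply g W, hgW,
      ← LinearMap.comp_apply w b, ← hYw, sub_eq_zero]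
    simp [Y]
  choose z hz using hmem
  refine ⟨z, fun i => hf ?_⟩
  have hAi : ∑ j, a i j • b (Pi.single j 1) = 0 := by
    have h1 := LinearMap.congr_fun hbA (Pi.single i 1)
    rw [LinearMap.comp_apply, LinearMap.zero_apply] at h1
    rw [← h1]
    simp only [A, Fintype.linearCombination_apply_single, one_smul, ← map_smul, ← map_sum]
    congr 1
    ext j
    simp [Finset.sum_apply, Pi.single_apply]
  simp only [map_sum, map_smul, hz, smul_sub, Finset.sum_sub_distrib]
  rw [← hxy, ← Finset.sum_congr rfl (fun j _ => map_smul W (a i j) (b (Pi.single j 1))), ← map_sum, hAi, map_zero,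
    sub_zero]

theorem flat_left {f : M →ₗ[R] N} (hf : CAlgX.UniversallyInjective R f) [Module.Flat R N] : Module.Flat R M := by
  refine Module.Flat.iff_lTensor_injective.2 fun I _ => ?_
  have hc : Function.Injective (LinearMap.rTensor R f ∘ₗ LinearMap.lTensor M I.subtype) := by
    rw [LinearMap.rTensor_comp_lTensor, ← LinearMap.lTensor_comp_rTensor]
    exact (Module.Flat.lTensor_preserves_injective_linearMap _ I.subtype_injective).comp (hf I)
  exact Function.Injective.of_comp (f := LinearMap.rTensor R f) hc

/-- The cokernel of a map into a flat module is flat if the map is injective modulo every finitely generated ideal. -/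
theorem flat_quotient {P : Type u} [AddCommGroup P] [Module R P] [Module.Flat R N] {f : M →ₗ[R] N}
    {g : N →ₗ[R] P} (hexact : Function.Exact f g) (hg : Function.Surjective g)
    (hf : ∀ I : Ideal R, I.FG → Function.Injective (f.rTensor (R ⧸ I))) : Module.Flat R P := by
  refine Module.Flat.iff_rTensor_injective.2 fun I hI => (injective_iff_map_eq_zero _).2 fun z hz => ?_
  obtain ⟨w, rfl⟩ := LinearMap.lTensor_surjective I hg z
  let μ : ∀ (X : Type u) [AddCommGroup X] [Module R X], I ⊗[R] X →ₗ[R] X := fun X _ _ =>
    (TensorProduct.lid R X).toLinearMap ∘ₗ LinearMap.rTensor X I.subtype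
  have hμN : Function.Injective (μ N) :=
    (TensorProduct.lid R N).injective.comp (Module.Flat.rTensor_preserves_injective_linearMap _ I.subtype_injective)
  have hnat : ∀ (X Y : Type u) [AddCommGroup X] [AddCommGroup Y] [Module R X] [Module R Y] (h : X →ₗ[R] Y)
      (t : I ⊗[R] X), μ Y (LinearMap.lTensor I h t) = h (μ X t) := fun X Y _ _ _ _ h t => by
    induction t using TensorProduct.induction_on with
    | zero => simp
    | tmul i x => simp [μ]
    | add p q hp hq => simp [map_add, hp, hq]
  have hgw : g (μ N w) = 0 := by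
    rw [← hnat]
    show (TensorProduct.lid R P) (LinearMap.rTensor P I.subtype (LinearMap.lTensor I g w)) = 0
    rw [hz, map_zero]
  obtain ⟨x, hx⟩ := (hexact _).1 hgw
  have hμX : ∀ (X : Type u) [AddCommGroup X] [Module R X] (t : I ⊗[R] X),
      μ X t ⊗ₜ[R] (1 : R ⧸ I) = 0 := fun X _ _ t => by
    induction t using TensorProduct.induction_on with
    | zero => simp
    | tmul i x =>
      simp only [μ, LinearMap.comp_apply, LinearEquiv.coe_coe, LinearMap.rTensor_tmul, Submodule.subtype_apply,
        TensorProduct.lid_tmul, TensorProduct.smul_tmul]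
      rw [show (i : R) • (1 : R ⧸ I) = 0 from by
        rw [← Algebra.algebraMap_eq_smul_one]; exact Ideal.Quotient.eq_zero_iff_mem.2 i.2, TensorProduct.tmul_zero]
    | add p q hp hq => rw [map_add, TensorProduct.add_tmul, hp, hq, add_zero]
  have hx0 : x ⊗ₜ[R] (1 : R ⧸ I) = 0 := hf I hI (by rw [LinearMap.rTensor_tmul, hx, hμX, map_zero])
  have hxI : x ∈ I • (⊤ : Submodule R M) := by
    have h1 := congrArg (TensorProduct.tensorQuotEquivQuotSMul M I) hx0
    rw [map_zero] at h1
    rw [← Submodule.Quotient.mk_eq_zero, ← h1,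
      show (1 : R ⧸ I) = Ideal.Quotient.mk I 1 from rfl, TensorProduct.tensorQuotEquivQuotSMul_tmul_mk, one_smul]
  obtain ⟨v, hv⟩ : x ∈ LinearMap.range (μ M) := by
    refine Submodule.smul_induction_on hxI (fun i hi m _ => ⟨⟨i, hi⟩ ⊗ₜ m, by simp [μ]⟩) fun p q hp hq => add_mem hp hq
  have hwv : LinearMap.lTensor I f v = w := hμN (by rw [hnat, hv, hx])
  rw [← hwv, ← LinearMap.comp_apply, ← LinearMap.lTensor_comp, hexact.linearMap_comp_eq_zero,
    LinearMap.lTensor_zero, LinearMap.zero_apply]

theorem flat_middle {P : Type u} [AddCommGroup P] [Module R P] [Module.Flat R P] {f : M →ₗ[R] N}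
    {g : N →ₗ[R] P} (hf : Function.Injective f) (hexact : Function.Exact f g) (hg : Function.Surjective g)
    [Module.Flat R M] : Module.Flat R N := by
  refine Module.Flat.iff_rTensor_injective.2 fun I _ => (injective_iff_map_eq_zero _).2 fun z hz => ?_
  have hzP : LinearMap.lTensor I g z = 0 :=
    Module.Flat.rTensor_preserves_injective_linearMap I.subtype I.subtype_injective (by
      rw [map_zero, ← LinearMap.comp_apply, LinearMap.rTensor_comp_lTensor, ← LinearMap.lTensor_comp_rTensor,
        LinearMap.comp_apply, hz, map_zero])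
  obtain ⟨v, rfl⟩ := ((lTensor_exact I hexact hg) z).1 hzP
  rw [← LinearMap.comp_apply, LinearMap.rTensor_comp_lTensor, ← LinearMap.lTensor_comp_rTensor,
    LinearMap.comp_apply] at hz
  have h1 : LinearMap.rTensor M I.subtype v = 0 := by
    refine (TensorProduct.lid R M).injective (hf ?_)
    rw [map_zero, map_zero, ← map_zero (TensorProduct.lid R N), ← hz]
    generalize LinearMap.rTensor M I.subtype v = t
    induction t using TensorProduct.induction_on with
    | zero => simp
    | tmul r m => simp
    | add p q hp hq => simp [map_add, hp, hq]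
  rw [show v = 0 from Module.Flat.rTensor_preserves_injective_linearMap I.subtype I.subtype_injective
    (by rw [h1, map_zero]), map_zero]

theorem exists_section {P : Type u} [AddCommGroup P] [Module R P] [Module.FinitePresentation R P] {f : M →ₗ[R] N}
    {g : N →ₗ[R] P} (hexact : Function.Exact f g) (hg : Function.Surjective g)
    (hf : CAlgX.UniversallyInjective R f) : ∃ s : P →ₗ[R] N, g ∘ₗ s = LinearMap.id := by
  classical
  obtain ⟨n, c, hc⟩ := Module.Finite.exists_fin (R := R) (M := P)
  let π := Fintype.linearCombination R c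
  have hπ : Function.Surjective π := LinearMap.range_eq_top.1 (by rw [Fintype.range_linearCombination, hc])
  obtain ⟨r, hr⟩ := Module.FinitePresentation.fg_ker π hπ
  choose y hy using fun i => hg (c i)
  have hrel : ∀ q : r, ∑ i, (q : Fin n → R) i • y i ∈ LinearMap.range f := fun q => by
    rw [← hexact.linearMap_ker_eq, LinearMap.mem_ker]
    have : (q : Fin n → R) ∈ LinearMap.ker π := hr ▸ Submodule.subset_span q.2
    rw [LinearMap.mem_ker, Fintype.linearCombination_apply] at this
    simpa [map_sum, hy] using this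
  choose x hx using hrel
  let e := r.equivFin
  obtain ⟨z, hz⟩ := (iff_equational f).1 hf r.card n (x ∘ e.symm) y (fun q i => (e.symm q : Fin n → R) i)
    fun q => hx _
  let S : (Fin n → R) →ₗ[R] N := Fintype.linearCombination R fun i => y i - f (z i)
  have hker : LinearMap.ker π ≤ LinearMap.ker S := by
    rw [← hr, Submodule.span_le]
    intro q hq
    have h1 := hz (e ⟨q, hq⟩)
    simp only [Function.comp_apply, Equiv.symm_apply_apply] at h1
    rw [SetLike.mem_coe, LinearMap.mem_ker]
    simp only [S, Fintype.linearCombination_apply, smul_sub, Finset.sum_sub_distrib, ← hx ⟨q, hq⟩, h1, map_sum,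
      map_smul, sub_self]
  obtain ⟨t, ht⟩ : ∃ t : P →ₗ[R] N, t ∘ₗ π = S :=
    ⟨(LinearMap.ker π).liftQ S hker ∘ₗ (π.quotKerEquivOfSurjective hπ).symm.toLinearMap, LinearMap.ext fun v => by
      have h1 : (π.quotKerEquivOfSurjective hπ).symm (π v) = Submodule.Quotient.mk v :=
        (LinearEquiv.symm_apply_eq _).2 rfl
      simp [h1]⟩
  refine ⟨t, (LinearMap.cancel_right hπ).1 ?_⟩
  rw [LinearMap.comp_assoc, ht]
  refine LinearMap.pi_ext' fun i => LinearMap.ext_ring ?_
  simp [S, π, hy, hexact.apply_apply_eq_zero]

end GrothLib.UnivInj
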